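/-
Subgroups of largest Chermak–Delgado measure and centrally large subgroups.
-/
import Cfsg.Prelude.Def_BaumannBlocks
import Cfsg.Prelude.Def_PLocal
import Cfsg.Agent.Lib.CharP.Product

namespace Cfsg.Agent.CLarge

open Subgroup
open scoped Pointwise

variable {P : Type*} [Group P]

theorem card_center (R : Subgroup P) :
    Nat.card (center R) = Nat.card (R ⊓ centralizer (R : Set P) : Subgroup P) := by
  rw [← card_map_of_injective (K := center R) (f := R.subtype) R.subtype_injective]
  congr 2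
  ext x
  constructor
  · rintro ⟨⟨y, hy⟩, hc, rfl⟩
    exact ⟨hy, mem_centralizer_iff.2 fun z hz =>
      congrArg Subtype.val (Subgroup.mem_center_iff.1 hc ⟨z, hz⟩)⟩
  · rintro ⟨hx, hc⟩
    exact ⟨⟨x, hx⟩, Subgroup.mem_center_iff.2 fun z =>
      Subtype.ext (mem_centralizer_iff.1 hc z z.2), rfl⟩

/-- If the join is the product set, orders multiply. -/
theorem card_of_coe_sup_eq [Finite P] {H K : Subgroup P}
    (h : ((H ⊔ K : Subgroup P) : Set P) = (H : Set P) * (K : Set P)) :
    Nat.card (H ⊔ K : Subgroup P) * Nat.card (H ⊓ K : Subgroup P) = Nat.card H * Nat.card K := by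
  refine le_antisymm ?_ (Product.card_mul_card_le H K)
  rw [Product.card_eq_inf_mul_relIndex H K, Product.card_eq_inf_mul_relIndex (H ⊔ K) K,
    inf_of_le_right (le_sup_right : K ≤ H ⊔ K)]
  have hsurj : Function.Surjective
      (quotientSubgroupOfEmbeddingOfLE K (le_sup_left : H ≤ H ⊔ K)) := by
    intro q
    obtain ⟨⟨x, hx⟩, rfl⟩ := QuotientGroup.mk_surjective q
    have hx' : x ∈ (H : Set P) * (K : Set P) := h ▸ hx
    obtain ⟨a, ha, b, hb, rfl⟩ := hx'
    refine ⟨QuotientGroup.mk ⟨a, ha⟩, ?_⟩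
    rw [quotientSubgroupOfEmbeddingOfLE_apply_mk, QuotientGroup.eq, mem_subgroupOf]
    simpa using hb
  have h1 : K.relIndex (H ⊔ K) ≤ K.relIndex H := Nat.card_le_card_of_surjective _ hsurj
  calc Nat.card K * K.relIndex (H ⊔ K) * Nat.card (H ⊓ K : Subgroup P)
      ≤ Nat.card K * K.relIndex H * Nat.card (H ⊓ K : Subgroup P) :=
        Nat.mul_le_mul_right _ (Nat.mul_le_mul_left _ h1)
    _ = _ := by ring

theorem mem_mul_of_mem_sup [Finite P] {H K : Subgroup P}
    (h : ((H ⊔ K : Subgroup P) : Set P) = (H : Set P) * (K : Set P)) {x : P} (hx : x ∈ H ⊔ K) :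
    ∃ a ∈ H, ∃ b ∈ K, a * b = x := by
  have : x ∈ (H : Set P) * (K : Set P) := h ▸ hx
  obtain ⟨a, ha, b, hb, e⟩ := this
  exact ⟨a, ha, b, hb, e⟩

theorem sup_le_centralizer_sup {H K : Subgroup P} (hH : H ≤ centralizer (H : Set P))
    (hK : K ≤ centralizer (K : Set P)) (hHK : H ≤ centralizer (K : Set P)) :
    H ⊔ K ≤ centralizer ((H ⊔ K : Subgroup P) : Set P) := by
  rw [Product.centralizer_sup]
  exact sup_le (le_inf hH hHK) (le_inf (le_centralizer_iff.1 hHK) hK)

variable [Finite P]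

theorem measure_le (R : Subgroup P) : Product.measure R ≤ maxCentralizerProduct P :=
  le_csSup (Set.finite_range fun R : Subgroup P => Product.measure R).bddAbove ⟨R, rfl⟩

theorem exists_large : ∃ R : Subgroup P, IsCentralizerLarge R := by
  have h := Nat.sSup_mem (s := {k : ℕ | ∃ R : Subgroup P,
      Nat.card ↥R * Nat.card ↥(centralizer (R : Set P)) = k}) ⟨_, ⊥, rfl⟩
    (Set.finite_range fun R : Subgroup P => Product.measure R).bddAbove
  exact h

theorem large_of_le {R : Subgroup P} (h : maxCentralizerProduct P ≤ Product.measure R) :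
    IsCentralizerLarge R :=
  le_antisymm (measure_le R) h

theorem large_iff {R : Subgroup P} :
    IsCentralizerLarge R ↔ Product.measure R = maxCentralizerProduct P := Iff.rfl

theorem max_pos : 0 < maxCentralizerProduct P := by
  obtain ⟨R, hR⟩ := exists_large (P := P)
  rw [← hR]
  exact Nat.mul_pos Nat.card_pos Nat.card_pos

theorem large_centralizer {Q : Subgroup P} (hQ : IsCentralizerLarge Q) :
    IsCentralizerLarge (centralizer (Q : Set P)) := by
  refine large_of_le ?_
  rw [← hQ, mul_comm]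
  exact Nat.mul_le_mul_left _ (card_le_of_le (le_centralizer_iff.1 le_rfl))

theorem centralizer_centralizer {Q : Subgroup P} (hQ : IsCentralizerLarge Q) :
    centralizer ((centralizer (Q : Set P) : Subgroup P) : Set P) = Q := by
  refine (eq_of_le_of_card_ge (le_centralizer_iff.1 le_rfl) ?_).symm
  have h1 := large_centralizer hQ
  unfold IsCentralizerLarge at h1 hQ
  rw [← hQ, mul_comm (Nat.card Q)] at h1
  exact (Nat.eq_of_mul_eq_mul_left Nat.card_pos h1).le

theorem eq_of_le_of_mul_eq {a b a' b' : ℕ} (h1 : a ≤ a') (h2 : b ≤ b') (hb : 0 < b)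
    (h : a' * b' ≤ a * b) : a = a' := by
  refine le_antisymm h1 ?_
  by_contra hlt
  have h3 : a * b < a' * b' :=
    lt_of_lt_of_le ((Nat.mul_lt_mul_right hb).2 (not_le.1 hlt)) (Nat.mul_le_mul_left _ h2)
  omega

theorem cd_aux {Q R : Subgroup P} (hQ : IsCentralizerLarge Q) (hR : IsCentralizerLarge R) :
    IsCentralizerLarge (Q ⊔ R) ∧ IsCentralizerLarge (Q ⊓ R) ∧
    Nat.card (Q ⊔ R : Subgroup P) * Nat.card (Q ⊓ R : Subgroup P) = Nat.card Q * Nat.card R ∧
    centralizer ((Q ⊓ R : Subgroup P) : Set P) =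
      centralizer (Q : Set P) ⊔ centralizer (R : Set P) := by
  have h0 := Product.measure_mul_le Q R
  rw [large_iff.1 hQ, large_iff.1 hR] at h0
  have hs := measure_le (Q ⊔ R)
  have hi := measure_le (Q ⊓ R)
  have hs' : IsCentralizerLarge (Q ⊔ R) := large_of_le (Nat.le_of_mul_le_mul_right
    (h0.trans (Nat.mul_le_mul_left _ hi)) max_pos)
  have hi' : IsCentralizerLarge (Q ⊓ R) := large_of_le (Nat.le_of_mul_le_mul_left
    (h0.trans (Nat.mul_le_mul_right _ hs)) max_pos)
  have hprod : Product.measure Q * Product.measure R =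
      Product.measure (Q ⊔ R) * Product.measure (Q ⊓ R) := by
    rw [large_iff.1 hQ, large_iff.1 hR, large_iff.1 hs', large_iff.1 hi']
  unfold Product.measure at hprod
  rw [Product.centralizer_sup] at hprod
  set CQ := centralizer (Q : Set P)
  set CR := centralizer (R : Set P)
  have hle := Product.centralizer_sup_le Q R
  have hA := Product.card_mul_card_le Q R
  have hB : Nat.card CQ * Nat.card CR ≤
      Nat.card (centralizer ((Q ⊓ R : Subgroup P) : Set P)) * Nat.card (CQ ⊓ CR : Subgroup P) :=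
    (Product.card_mul_card_le CQ CR).trans (Nat.mul_le_mul_right _ (card_le_of_le hle))
  have hpos : 0 < Nat.card CQ * Nat.card CR := Nat.mul_pos Nat.card_pos Nat.card_pos
  have hA' := eq_of_le_of_mul_eq hA hB hpos (le_of_eq (by linarith))
  have hB' := eq_of_le_of_mul_eq hB hA (Nat.mul_pos Nat.card_pos Nat.card_pos)
    (le_of_eq (by linarith))
  refine ⟨hs', hi', hA'.symm, (eq_of_le_of_card_ge hle ?_).symm⟩
  have h3 := Product.card_mul_card_le CQ CR
  exact Nat.le_of_mul_le_mul_right (hB'.symm.le.trans h3) Nat.card_pos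

theorem large_sup {Q R : Subgroup P} (hQ : IsCentralizerLarge Q) (hR : IsCentralizerLarge R) :
    IsCentralizerLarge (Q ⊔ R) :=
  (cd_aux hQ hR).1

theorem large_inf {Q R : Subgroup P} (hQ : IsCentralizerLarge Q) (hR : IsCentralizerLarge R) :
    IsCentralizerLarge (Q ⊓ R) :=
  (cd_aux hQ hR).2.1

theorem card_sup_inf {Q R : Subgroup P} (hQ : IsCentralizerLarge Q) (hR : IsCentralizerLarge R) :
    Nat.card (Q ⊔ R : Subgroup P) * Nat.card (Q ⊓ R : Subgroup P) = Nat.card Q * Nat.card R :=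
  (cd_aux hQ hR).2.2.1

theorem coe_sup {Q R : Subgroup P} (hQ : IsCentralizerLarge Q) (hR : IsCentralizerLarge R) :
    ((Q ⊔ R : Subgroup P) : Set P) = (Q : Set P) * (R : Set P) :=
  Product.coe_sup_eq_mul Q R (card_sup_inf hQ hR).le

theorem centralizer_inf {Q R : Subgroup P} (hQ : IsCentralizerLarge Q) (hR : IsCentralizerLarge R) :
    centralizer ((Q ⊓ R : Subgroup P) : Set P) =
      centralizer (Q : Set P) ⊔ centralizer (R : Set P) :=
  (cd_aux hQ hR).2.2.2

theorem large_sInf {T : Set (Subgroup P)} (hne : T.Nonempty)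
    (hT : ∀ R ∈ T, IsCentralizerLarge R) : IsCentralizerLarge (sInf T) := by
  obtain ⟨R0, hR0⟩ := hne
  obtain ⟨M, -, hM⟩ := Finite.exists_le_minimal
    (p := fun X : Subgroup P => IsCentralizerLarge X ∧ sInf T ≤ X) ⟨hT R0 hR0, sInf_le hR0⟩
  have : M = sInf T := le_antisymm (le_sInf fun R hR =>
    (hM.2 ⟨large_inf hM.1.1 (hT R hR), le_inf hM.1.2 (sInf_le hR)⟩ inf_le_left).trans inf_le_right)
    hM.1.2
  exact this ▸ hM.1.1

theorem maxCentral_eq : maxCentralProduct P = maxCentralizerProduct P := by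
  refine le_antisymm ?_ ?_
  · refine csSup_le' ?_
    rintro k ⟨R, rfl⟩
    refine le_trans ?_ (measure_le R)
    rw [card_center]
    exact Nat.mul_le_mul_left _ (card_le_of_le inf_le_right)
  · obtain ⟨Q, hQ⟩ := exists_large (P := P)
    have hR := large_sup hQ (large_centralizer hQ)
    set R := Q ⊔ centralizer (Q : Set P)
    have hle : centralizer (R : Set P) ≤ R :=
      (centralizer_le (le_sup_left : Q ≤ R)).trans le_sup_right
    refine le_csSup (Set.finite_range fun R : Subgroup P =>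
      Nat.card ↥R * Nat.card (center R)).bddAbove ⟨R, ?_⟩
    rw [card_center, inf_of_le_right hle]
    exact hR

theorem cl_iff {Q : Subgroup P} :
    IsCentrallyLarge Q ↔ IsCentralizerLarge Q ∧ centralizer (Q : Set P) ≤ Q := by
  unfold IsCentrallyLarge
  rw [maxCentral_eq, card_center]
  constructor
  · intro h
    have h1 : Nat.card (Q ⊓ centralizer (Q : Set P) : Subgroup P) ≤
        Nat.card (centralizer (Q : Set P)) := card_le_of_le inf_le_right
    have h2 := measure_le Q
    unfold Product.measure at h2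
    have h3 : Nat.card (Q ⊓ centralizer (Q : Set P) : Subgroup P) =
        Nat.card (centralizer (Q : Set P)) :=
      le_antisymm h1 (Nat.le_of_mul_le_mul_left (h2.trans h.ge) Nat.card_pos)
    exact ⟨by unfold IsCentralizerLarge; rw [← h3]; exact h,
      inf_eq_right.1 (eq_of_le_of_card_ge inf_le_right h3.ge)⟩
  · rintro ⟨h, hle⟩
    rwa [inf_of_le_right hle]

theorem cl_large {Q : Subgroup P} (hQ : IsCentrallyLarge Q) : IsCentralizerLarge Q :=
  (cl_iff.1 hQ).1

theorem cl_le {Q : Subgroup P} (hQ : IsCentrallyLarge Q) : centralizer (Q : Set P) ≤ Q :=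
  (cl_iff.1 hQ).2

theorem cl_sup {Q R : Subgroup P} (hQ : IsCentrallyLarge Q) (hR : IsCentrallyLarge R) :
    IsCentrallyLarge (Q ⊔ R) :=
  cl_iff.2 ⟨large_sup (cl_large hQ) (cl_large hR),
    ((centralizer_le (le_sup_left : Q ≤ Q ⊔ R)).trans (cl_le hQ)).trans le_sup_left⟩

theorem cl_sSup {T : Set (Subgroup P)} (hne : T.Nonempty)
    (hT : ∀ R ∈ T, IsCentrallyLarge R) : IsCentrallyLarge (sSup T) := by
  obtain ⟨R0, hR0⟩ := hne
  obtain ⟨M, -, hM⟩ := Finite.exists_le_maximal
    (p := fun X : Subgroup P => IsCentrallyLarge X ∧ X ≤ sSup T) ⟨hT R0 hR0, le_sSup hR0⟩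
  have : M = sSup T := le_antisymm hM.1.2 (sSup_le fun R hR =>
    le_sup_right.trans (hM.2 ⟨cl_sup hM.1.1 (hT R hR), sup_le hM.1.2 (le_sSup hR)⟩ le_sup_left))
  exact this ▸ hM.1.1

theorem exists_cl : ∃ R : Subgroup P, IsCentrallyLarge R := by
  obtain ⟨Q, hQ⟩ := exists_large (P := P)
  exact ⟨Q ⊔ centralizer (Q : Set P), cl_iff.2 ⟨large_sup hQ (large_centralizer hQ),
    (centralizer_le (le_sup_left : Q ≤ Q ⊔ centralizer (Q : Set P))).trans le_sup_right⟩⟩

theorem exists_mcl_le {R : Subgroup P} (hR : IsCentrallyLarge R) :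
    ∃ Q : Subgroup P, Q ≤ R ∧ IsMinimalCentrallyLarge Q := by
  obtain ⟨Q, hQR, hQ⟩ := Finite.exists_le_minimal (p := fun X : Subgroup P => IsCentrallyLarge X) hR
  exact ⟨Q, hQR, hQ.1, fun R' h h' => le_antisymm h (hQ.2 h' h)⟩

theorem exists_mcl : ∃ Q : Subgroup P, IsMinimalCentrallyLarge Q := by
  obtain ⟨R, hR⟩ := exists_cl (P := P)
  obtain ⟨Q, -, hQ⟩ := exists_mcl_le hR
  exact ⟨Q, hQ⟩

theorem centralizer_maxAbelian {A : Subgroup P} (hA : A ∈ maxAbelianSubgroups P) :
    centralizer (A : Set P) = A := by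
  have hA1 : A ≤ centralizer (A : Set P) := le_centralizer_iff_isMulCommutative.2 hA.1
  refine le_antisymm (fun x hx => ?_) hA1
  have hx' : zpowers x ≤ centralizer (A : Set P) := zpowers_le.2 hx
  have hxx : zpowers x ≤ centralizer (zpowers x : Set P) :=
    le_centralizer_iff_isMulCommutative.2 inferInstance
  have h := sup_le_centralizer_sup hA1 hxx (le_centralizer_iff.1 hx')
  have h2 := eq_of_le_of_card_ge (le_sup_left : A ≤ A ⊔ zpowers x)
    (hA.2 _ (le_centralizer_iff_isMulCommutative.1 h))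
  exact h2 ▸ (le_sup_right : zpowers x ≤ A ⊔ zpowers x) (mem_zpowers x)

theorem exists_maxAbelian : ∃ A : Subgroup P, A ∈ maxAbelianSubgroups P := by
  have hfin : {A : Subgroup P | IsMulCommutative A}.Finite := Set.toFinite _
  obtain ⟨A, hA, hmax⟩ := Set.exists_max_image _ (fun A : Subgroup P => Nat.card A) hfin
    ⟨⊥, le_centralizer_iff_isMulCommutative.1 bot_le⟩
  exact ⟨A, hA, hmax⟩

end Cfsg.Agent.CLarge
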