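/-
Centrally large subgroups, abelian subgroups of largest order, and minimal centrally large subgroups.
-/
import Cfsg.Agent.Lib.CentrallyLarge.Basic

namespace Cfsg.Agent.CLarge

open Subgroup
open scoped Pointwise commutatorElement

variable {P : Type*} [Group P] [Finite P]

theorem inf_maxAbelian_facts {Q A : Subgroup P} (hQ : IsCentrallyLarge Q)
    (hA : A ∈ maxAbelianSubgroups P) :
    ((Q ⊔ A : Subgroup P) : Set P) = (Q : Set P) * (A : Set P) ∧ IsCentrallyLarge (Q ⊔ A) ∧
    (Q ⊔ A) ⊓ centralizer ((Q ⊓ A : Subgroup P) : Set P) = centralizer (Q : Set P) ⊔ A ∧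
    ((centralizer (Q : Set P) ⊔ A : Subgroup P) : Set P) =
      (centralizer (Q : Set P) : Set P) * (A : Set P) := by
  set Z := centralizer (Q : Set P) with hZdef
  have hZQ : Z ≤ Q := cl_le hQ
  have hCA : centralizer (A : Set P) = A := centralizer_maxAbelian hA
  have hZZ : Z ≤ centralizer (Z : Set P) := hZQ.trans (le_centralizer_iff.1 le_rfl)
  have hQA : Q ⊓ A ≤ centralizer ((Q ⊓ A : Subgroup P) : Set P) :=
    inf_le_right.trans (hCA.ge.trans (centralizer_le (inf_le_right : Q ⊓ A ≤ A)))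
  have hQAZ : Q ⊓ A ≤ centralizer (Z : Set P) := inf_le_left.trans (le_centralizer_iff.1 le_rfl)
  have hBab := sup_le_centralizer_sup hZZ hQA (le_centralizer_iff.1 hQAZ)
  set B := Z ⊔ (Q ⊓ A)
  have hBA : Nat.card B ≤ Nat.card A := hA.2 B (le_centralizer_iff_isMulCommutative.1 hBab)
  have hinf : Z ⊓ (Q ⊓ A) = Z ⊓ A := by rw [← inf_assoc, inf_of_le_left hZQ]
  have h1 := Product.card_mul_card_le Z (Q ⊓ A)
  rw [hinf] at h1
  have h2 := Product.card_mul_card_le Q A
  have hmeas : Product.measure (Q ⊔ A) =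
      Nat.card (Q ⊔ A : Subgroup P) * Nat.card (Z ⊓ A : Subgroup P) := by
    unfold Product.measure; rw [Product.centralizer_sup, hCA]
  have h4 := measure_le (Q ⊔ A)
  rw [hmeas] at h4
  have hm : Nat.card Q * Nat.card Z = maxCentralizerProduct P := cl_large hQ
  set q := Nat.card Q
  set z := Nat.card Z
  set a := Nat.card A
  set u := Nat.card (Q ⊔ A : Subgroup P)
  set i := Nat.card (Q ⊓ A : Subgroup P)
  set k := Nat.card (Z ⊓ A : Subgroup P)
  set b := Nat.card B
  have c1 : q * a * z ≤ u * i * z := Nat.mul_le_mul_right z h2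
  have c2 : u * i * z ≤ u * (b * k) := by
    calc u * i * z = u * (z * i) := by ring
      _ ≤ _ := Nat.mul_le_mul_left u h1
  have c3 : u * (b * k) ≤ u * (a * k) := Nat.mul_le_mul_left u (Nat.mul_le_mul_right k hBA)
  have c4 : u * (a * k) ≤ q * a * z := by
    calc u * (a * k) = a * (u * k) := by ring
      _ ≤ a * maxCentralizerProduct P := Nat.mul_le_mul_left a h4
      _ = q * a * z := by rw [← hm]; ring
  have hupos : 0 < u := Nat.card_pos
  have hzpos : 0 < z := Nat.card_pos
  have hkpos : 0 < k := Nat.card_pos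
  have hapos : 0 < a := Nat.card_pos
  have e1 : u * i = q * a := le_antisymm
    (Nat.le_of_mul_le_mul_right ((c2.trans c3).trans c4) hzpos) h2
  have e2 : b = a := le_antisymm hBA (Nat.le_of_mul_le_mul_right
    (Nat.le_of_mul_le_mul_left ((c4.trans c1).trans c2) hupos) hkpos)
  have e3 : z * i = b * k := le_antisymm h1 (Nat.le_of_mul_le_mul_left
    (((c3.trans c4).trans c1).trans (le_of_eq (by ring))) hupos)
  have e4 : maxCentralizerProduct P ≤ u * k := by
    refine Nat.le_of_mul_le_mul_left ?_ hapos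
    calc a * maxCentralizerProduct P = q * a * z := by rw [← hm]; ring
      _ ≤ u * (a * k) := (c1.trans c2).trans c3
      _ = _ := by ring
  have hprod := Product.coe_sup_eq_mul Q A e1.le
  have hBprod : (B : Set P) = (Z : Set P) * ((Q ⊓ A : Subgroup P) : Set P) :=
    Product.coe_sup_eq_mul Z (Q ⊓ A) (by rw [hinf]; exact e3.ge)
  have hQAcl : IsCentrallyLarge (Q ⊔ A) := cl_iff.2 ⟨large_of_le (hmeas ▸ e4),
    ((centralizer_le (le_sup_left : Q ≤ Q ⊔ A)).trans (cl_le hQ)).trans le_sup_left⟩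
  have hBmax : B ∈ maxAbelianSubgroups P :=
    ⟨le_centralizer_iff_isMulCommutative.1 hBab, fun C hC => (hA.2 C hC).trans e2.ge⟩
  have hdec : ∀ x ∈ (Q ⊔ A) ⊓ centralizer ((Q ⊓ A : Subgroup P) : Set P),
      ∃ z' ∈ Z, ∃ a' ∈ A, z' * a' = x := by
    intro x hx
    obtain ⟨hxQA, hxC⟩ := mem_inf.1 hx
    obtain ⟨q', hq', a', ha', rfl⟩ := mem_mul_of_mem_sup hprod hxQA
    have ha'C : a' ∈ centralizer ((Q ⊓ A : Subgroup P) : Set P) :=
      centralizer_le (inf_le_right : Q ⊓ A ≤ A) (hCA.ge ha')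
    have hq'C : q' ∈ centralizer ((Q ⊓ A : Subgroup P) : Set P) := by
      simpa using mul_mem hxC (inv_mem ha'C)
    have hq'B : q' ∈ B := by
      rw [← centralizer_maxAbelian hBmax, Product.centralizer_sup]
      exact ⟨le_centralizer_iff.1 le_rfl hq', hq'C⟩
    obtain ⟨z', hz', b', hb', rfl⟩ := mem_mul_of_mem_sup hBprod hq'B
    exact ⟨z', hz', b' * a', mul_mem hb'.2 ha', (mul_assoc z' b' a').symm⟩
  have hge : Z ⊔ A ≤ (Q ⊔ A) ⊓ centralizer ((Q ⊓ A : Subgroup P) : Set P) :=
    sup_le (le_inf (hZQ.trans le_sup_left) (le_centralizer_iff.1 hQAZ))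
      (le_inf le_sup_right (hCA.ge.trans (centralizer_le (inf_le_right : Q ⊓ A ≤ A))))
  refine ⟨hprod, hQAcl, le_antisymm ?_ hge, Set.Subset.antisymm ?_ ?_⟩
  · intro x hx
    obtain ⟨z', hz', a', ha', rfl⟩ := hdec x hx
    exact mul_mem (mem_sup_left hz') (mem_sup_right ha')
  · intro x hx
    obtain ⟨z', hz', a', ha', rfl⟩ := hdec x (hge hx)
    exact Set.mul_mem_mul hz' ha'
  · rintro _ ⟨z', hz', a', ha', rfl⟩
    exact mul_mem (mem_sup_left hz') (mem_sup_right ha')

theorem sup_thompson_cl {Q : Subgroup P} (hQ : IsCentrallyLarge Q) :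
    IsCentrallyLarge (Q ⊔ thompsonSubgroupA P) ∧
    centralizer ((thompsonSubgroupA P ⊓ centralizer (thompsonSubgroupA P : Set P) : Subgroup P) : Set P)
      ≤ Q ⊔ thompsonSubgroupA P := by
  set J := thompsonSubgroupA P
  obtain ⟨A, hA⟩ := exists_maxAbelian (P := P)
  have hX : Q ⊔ J = sSup ((fun A => Q ⊔ A) '' maxAbelianSubgroups P) := by
    refine le_antisymm (sup_le (le_sup_left.trans (le_sSup ⟨A, hA, rfl⟩))
      (sSup_le fun B hB => le_sup_right.trans (le_sSup ⟨B, hB, rfl⟩))) (sSup_le ?_)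
    rintro _ ⟨B, hB, rfl⟩
    exact sup_le_sup_left (le_sSup hB) Q
  have hcl : IsCentrallyLarge (Q ⊔ J) := by
    rw [hX]
    exact cl_sSup ⟨_, A, hA, rfl⟩ (by rintro _ ⟨B, hB, rfl⟩; exact (inf_maxAbelian_facts hQ hB).2.1)
  refine ⟨hcl, ?_⟩
  rw [← centralizer_centralizer (cl_large hcl)]
  refine centralizer_le ?_
  intro x hx
  have hxJ : x ∈ centralizer (J : Set P) := centralizer_le (le_sup_right : J ≤ Q ⊔ J) hx
  exact ⟨(le_sSup hA : A ≤ J) ((centralizer_maxAbelian hA).le
    (centralizer_le (le_sSup hA : A ≤ J) hxJ)), hxJ⟩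

theorem mcl_sup_center {Q R : Subgroup P} (hQ : IsMinimalCentrallyLarge Q)
    (hR : IsMinimalCentrallyLarge R) : (Q ⊓ R) ⊔ centralizer (Q : Set P) = Q := by
  have hQl := cl_large hQ.1
  have hRl := cl_large hR.1
  refine hQ.2 _ (sup_le inf_le_left (cl_le hQ.1))
    (cl_iff.2 ⟨large_sup (large_inf hQl hRl) (large_centralizer hQl), ?_⟩)
  rw [Product.centralizer_sup, centralizer_inf hQl hRl, centralizer_centralizer hQl]
  rintro x ⟨hx, hxQ⟩
  obtain ⟨z, hz, w, hw, rfl⟩ :=
    mem_mul_of_mem_sup (coe_sup (large_centralizer hQl) (large_centralizer hRl)) hx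
  have hwQ : w ∈ Q := by simpa using mul_mem (inv_mem (cl_le hQ.1 hz)) hxQ
  exact mul_mem (mem_sup_right hz) (mem_sup_left ⟨hwQ, cl_le hR.1 hw⟩)

theorem mcl_center_inf {Q R : Subgroup P} (hQ : IsMinimalCentrallyLarge Q)
    (hR : IsMinimalCentrallyLarge R) :
    centralizer (Q : Set P) ⊓ R = centralizer (Q : Set P) ⊓ centralizer (R : Set P) := by
  refine le_antisymm (le_inf inf_le_left ?_) (inf_le_inf_left _ (cl_le hR.1))
  rw [le_centralizer_iff]
  conv_lhs => rw [← mcl_sup_center hR hQ]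
  refine sup_le ?_ ?_
  · exact (inf_le_right.trans (le_centralizer_iff.1 le_rfl)).trans
      (centralizer_le (inf_le_left : centralizer (Q : Set P) ⊓ R ≤ _))
  · exact centralizer_le (inf_le_right : centralizer (Q : Set P) ⊓ R ≤ R)

theorem mcl_cards {Q R : Subgroup P} (hQ : IsMinimalCentrallyLarge Q)
    (hR : IsMinimalCentrallyLarge R) :
    Nat.card Q = Nat.card R ∧
      Nat.card (centralizer (Q : Set P)) = Nat.card (centralizer (R : Set P)) := by
  have hQl := cl_large hQ.1
  have hRl := cl_large hR.1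
  have e1 := card_sup_inf (large_inf hQl hRl) (large_centralizer hQl)
  have e2 := card_sup_inf (large_inf hRl hQl) (large_centralizer hRl)
  rw [mcl_sup_center hQ hR] at e1
  rw [mcl_sup_center hR hQ] at e2
  have i1 : Q ⊓ R ⊓ centralizer (Q : Set P) = centralizer (Q : Set P) ⊓ centralizer (R : Set P) := by
    rw [← mcl_center_inf hQ hR, inf_assoc, inf_comm R,
      inf_of_le_right (inf_le_left.trans (cl_le hQ.1))]
  have i2 : R ⊓ Q ⊓ centralizer (R : Set P) = centralizer (Q : Set P) ⊓ centralizer (R : Set P) := by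
    rw [inf_comm (centralizer (Q : Set P)), ← mcl_center_inf hR hQ, inf_assoc, inf_comm Q,
      inf_of_le_right (inf_le_left.trans (cl_le hR.1))]
  rw [i1] at e1
  rw [i2, inf_comm R Q] at e2
  have hm : Nat.card Q * Nat.card (centralizer (Q : Set P)) =
      Nat.card R * Nat.card (centralizer (R : Set P)) := hQl.trans hRl.symm
  set q := Nat.card Q
  set r := Nat.card R
  set zq := Nat.card (centralizer (Q : Set P))
  set zr := Nat.card (centralizer (R : Set P))
  set i := Nat.card (Q ⊓ R : Subgroup P)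
  set k := Nat.card (centralizer (Q : Set P) ⊓ centralizer (R : Set P) : Subgroup P)
  have hk : 0 < k := Nat.card_pos
  have hzq : 0 < zq := Nat.card_pos
  have hq : 0 < q := Nat.card_pos
  have h3 : q * zr = r * zq := Nat.eq_of_mul_eq_mul_right hk (by
    calc q * zr * k = q * k * zr := by ring
      _ = i * zq * zr := by rw [e1]
      _ = i * zr * zq := by ring
      _ = r * k * zq := by rw [e2]
      _ = r * zq * k := by ring)
  have h4 : q * q = r * r := Nat.eq_of_mul_eq_mul_right hzq (by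
    calc q * q * zq = q * (q * zq) := by ring
      _ = q * (r * zr) := by rw [hm]
      _ = r * (q * zr) := by ring
      _ = r * (r * zq) := by rw [h3]
      _ = r * r * zq := by ring)
  have h5 : q = r := Nat.mul_self_inj.1 h4
  refine ⟨h5, ?_⟩
  rw [← h5] at hm
  exact Nat.eq_of_mul_eq_mul_left hq hm

theorem commutator_mcl {Q R : Subgroup P} (hQ : IsMinimalCentrallyLarge Q)
    (hR : IsMinimalCentrallyLarge R) : ⁅Q, Q⁆ = ⁅Q ⊓ R, Q ⊓ R⁆ := by
  refine le_antisymm (commutator_le.2 fun x hx y hy => ?_)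
    (commutator_mono inf_le_left inf_le_left)
  have hQl := cl_large hQ.1
  have hprod := coe_sup (large_inf hQl (cl_large hR.1)) (large_centralizer hQl)
  rw [← mcl_sup_center hQ hR] at hx hy
  obtain ⟨a, ha, z, hz, rfl⟩ := mem_mul_of_mem_sup hprod hx
  obtain ⟨b, hb, w, hw, rfl⟩ := mem_mul_of_mem_sup hprod hy
  have c : ∀ {u}, u ∈ centralizer (Q : Set P) → ∀ v ∈ Q, u * v = v * u :=
    fun hu v hv => (mem_centralizer_iff.1 hu v hv).symm
  have h1 : z * (b * w) = b * w * z := c hz _ (mul_mem hb.1 (cl_le hQ.1 hw))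
  have h2 : w * a⁻¹ = a⁻¹ * w := c hw _ (inv_mem ha.1)
  have : ⁅a * z, b * w⁆ = ⁅a, b⁆ := by
    simp only [commutatorElement_def]
    calc a * z * (b * w) * (a * z)⁻¹ * (b * w)⁻¹
        = a * (z * (b * w)) * z⁻¹ * a⁻¹ * (b * w)⁻¹ := by group
      _ = a * (b * w * z) * z⁻¹ * a⁻¹ * (b * w)⁻¹ := by rw [h1]
      _ = a * b * (w * a⁻¹) * w⁻¹ * b⁻¹ := by group
      _ = a * b * (a⁻¹ * w) * w⁻¹ * b⁻¹ := by rw [h2]
      _ = a * b * a⁻¹ * b⁻¹ := by group
  rw [this]
  exact commutator_mem_commutator ha hb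

theorem mcl_iff_maxAbelian {Q : Subgroup P} (hQ : IsMinimalCentrallyLarge Q)
    (hab : IsMulCommutative Q) (X : Subgroup P) :
    IsMinimalCentrallyLarge X ↔ X ∈ maxAbelianSubgroups P := by
  have hQC : centralizer (Q : Set P) = Q :=
    le_antisymm (cl_le hQ.1) (le_centralizer_iff_isMulCommutative.2 hab)
  have hm : Nat.card Q * Nat.card Q = maxCentralizerProduct P := by
    have := cl_large hQ.1
    unfold IsCentralizerLarge at this
    rwa [hQC] at this
  have hbound : ∀ A : Subgroup P, IsMulCommutative A → Nat.card A ≤ Nat.card Q := by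
    intro A hA
    have h1 : Nat.card A ≤ Nat.card (centralizer (A : Set P)) :=
      card_le_of_le (le_centralizer_iff_isMulCommutative.2 hA)
    have h2 := measure_le A
    rw [← hm] at h2
    exact Nat.mul_self_le_mul_self_iff.1 ((Nat.mul_le_mul_left _ h1).trans h2)
  constructor
  · intro hX
    obtain ⟨h1, h2⟩ := mcl_cards hQ hX
    rw [hQC] at h2
    have hXC := eq_of_le_of_card_ge (cl_le hX.1) (h1.symm.trans h2).le
    refine ⟨le_centralizer_iff_isMulCommutative.1 hXC.ge, fun B hB => ?_⟩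
    exact (hbound B hB).trans h1.le
  · intro hX
    have hXC := centralizer_maxAbelian hX
    have hcard : Nat.card X = Nat.card Q := le_antisymm (hbound X hX.1) (hX.2 Q hab)
    have hXcl : IsCentrallyLarge X := cl_iff.2 ⟨by
      unfold IsCentralizerLarge; rw [hXC, hcard, hm], hXC.le⟩
    refine ⟨hXcl, fun X' hle hX' => le_antisymm hle ?_⟩
    exact hXC.ge.trans ((centralizer_le hle).trans (cl_le hX'))

theorem mcl_abelian_of_card (hJ : thompsonSubgroupA P = ⊤)
    (hd : ∀ A ∈ maxAbelianSubgroups P, Nat.card A ^ 2 = Nat.card P * Nat.card (center P))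
    {Q : Subgroup P} (hQ : IsMinimalCentrallyLarge Q) : IsMulCommutative Q := by
  obtain ⟨A, hA⟩ := exists_maxAbelian (P := P)
  have htop := (sup_thompson_cl hQ.1).1
  rw [hJ, sup_top_eq] at htop
  have hm := cl_large htop
  unfold IsCentralizerLarge at hm
  rw [coe_top, centralizer_univ, card_top, ← hd A hA, sq] at hm
  have hC := centralizer_maxAbelian hA
  have hAcl : IsCentrallyLarge A := cl_iff.2 ⟨by unfold IsCentralizerLarge; rw [hC, hm], hC.le⟩
  have hAmcl : IsMinimalCentrallyLarge A :=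
    ⟨hAcl, fun X hle hX => le_antisymm hle (hC.ge.trans ((centralizer_le hle).trans (cl_le hX)))⟩
  exact ((mcl_iff_maxAbelian hAmcl hA.1 Q).1 hQ).1

theorem centralizer_center_thompson
    (hab : ∀ Q : Subgroup P, IsMinimalCentrallyLarge Q → IsMulCommutative Q) :
    centralizer ((thompsonSubgroupA P ⊓ centralizer (thompsonSubgroupA P : Set P) : Subgroup P) : Set P)
      = thompsonSubgroupA P := by
  obtain ⟨Q, hQ⟩ := exists_mcl (P := P)
  obtain ⟨A, hA⟩ := exists_maxAbelian (P := P)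
  have hJ : IsCentrallyLarge (thompsonSubgroupA P) := cl_sSup ⟨A, hA⟩
    fun B hB => ((mcl_iff_maxAbelian hQ (hab Q hQ) B).2 hB).1
  rw [inf_of_le_right (cl_le hJ), centralizer_centralizer (cl_large hJ)]

end Cfsg.Agent.CLarge
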