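/-
A minimal centrally large subgroup normalised by all abelian subgroups of largest order and by all
minimal centrally large subgroups.
-/
import Cfsg.Agent.Lib.CentrallyLarge.Minimal
import Cfsg.Agent.Lib.CharP.Basic
import Mathlib.GroupTheory.Nilpotent

namespace Cfsg.Agent.CLarge

open Subgroup
open scoped Pointwise commutatorElement

variable {P : Type*} [Group P]

/-- A commutative subgroup of largest measure. -/
def AbLg (L : Subgroup P) : Prop :=
  IsCentralizerLarge L ∧ L ≤ centralizer (L : Set P)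

/-- A maximal member among commutative subgroups of largest measure. -/
def MaxZ (Z : Subgroup P) : Prop :=
  AbLg Z ∧ ∀ Z' : Subgroup P, AbLg Z' → Z ≤ Z' → Z' = Z

/-- Every `R`-invariant commutative subgroup of largest measure lies in an `R`-invariant maximal one. -/
def Extends (R : Subgroup P) : Prop :=
  ∀ L : Subgroup P, AbLg L → R ≤ normalizer (L : Set P) →
    ∃ Z : Subgroup P, L ≤ Z ∧ MaxZ Z ∧ R ≤ normalizer (Z : Set P)

/-- The largest `S`-invariant subgroup of `Q`. -/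
def coreIn (S Q : Subgroup P) : Subgroup P :=
  sInf ((fun s => Q.map (MulAut.conj s).toMonoidHom) '' (S : Set P))

theorem mem_coreIn {S Q : Subgroup P} {x : P} :
    x ∈ coreIn S Q ↔ ∀ s ∈ S, s⁻¹ * x * s ∈ Q := by
  simp only [coreIn, mem_sInf, Set.forall_mem_image, mem_map, SetLike.mem_coe]
  refine forall₂_congr fun s _ => ⟨?_, fun h => ⟨_, h, by simp [mul_assoc]⟩⟩
  rintro ⟨y, hy, rfl⟩
  simpa [mul_assoc] using hy

theorem coreIn_le (S Q : Subgroup P) : coreIn S Q ≤ Q := fun x hx => by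
  simpa using mem_coreIn.1 hx 1 (one_mem S)

theorem le_normalizer_of_forall {S H : Subgroup P} (h : ∀ g ∈ S, ∀ x ∈ H, g * x * g⁻¹ ∈ H) :
    S ≤ normalizer (H : Set P) := by
  intro g hg
  rw [mem_normalizer_iff]
  refine fun x => ⟨h g hg x, fun hx => ?_⟩
  simpa [mul_assoc] using h g⁻¹ (inv_mem hg) _ hx

theorem conj_mem {g : P} {H : Subgroup P} (hg : g ∈ normalizer (H : Set P)) {x : P} (hx : x ∈ H) :
    g * x * g⁻¹ ∈ H :=
  (mem_normalizer_iff.1 hg x).1 hx

theorem le_normalizer_coreIn (S Q : Subgroup P) : S ≤ normalizer (coreIn S Q : Set P) := by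
  refine le_normalizer_of_forall fun g hg x hx => mem_coreIn.2 fun s hs => ?_
  have := mem_coreIn.1 hx (g⁻¹ * s) (mul_mem (inv_mem hg) hs)
  simpa [mul_assoc] using this

theorem le_normalizer_inf' {S H K : Subgroup P} (hH : S ≤ normalizer (H : Set P))
    (hK : S ≤ normalizer (K : Set P)) : S ≤ normalizer ((H ⊓ K : Subgroup P) : Set P) :=
  le_normalizer_of_forall fun _ hg _ hx => ⟨conj_mem (hH hg) hx.1, conj_mem (hK hg) hx.2⟩

theorem le_normalizer_sup' {S H K : Subgroup P} (hH : S ≤ normalizer (H : Set P))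
    (hK : S ≤ normalizer (K : Set P)) : S ≤ normalizer ((H ⊔ K : Subgroup P) : Set P) := by
  refine le_normalizer_of_forall fun g hg x hx => ?_
  have hle : H ⊔ K ≤ (H ⊔ K).comap (MulAut.conj g).toMonoidHom :=
    sup_le (fun y hy => mem_sup_left (conj_mem (hH hg) hy))
      (fun y hy => mem_sup_right (conj_mem (hK hg) hy))
  exact hle hx

theorem le_coreIn {S L Q : Subgroup P} (h : L ≤ Q) (hS : S ≤ normalizer (L : Set P)) :
    L ≤ coreIn S Q := fun x hx => mem_coreIn.2 fun s hs => h (by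
  simpa using conj_mem (hS (inv_mem hs)) hx)

theorem le_normalizer_centralizer {S Q : Subgroup P} (h : S ≤ normalizer (Q : Set P)) :
    S ≤ normalizer ((centralizer (Q : Set P) : Subgroup P) : Set P) :=
  h.trans (CharP.normalizer_le_normalizer_centralizer Q)

variable [Finite P]

theorem large_coreIn {Q : Subgroup P} (S : Subgroup P) (hQ : IsCentralizerLarge Q) :
    IsCentralizerLarge (coreIn S Q) := by
  refine large_sInf ⟨_, 1, one_mem S, rfl⟩ ?_
  rintro _ ⟨s, -, rfl⟩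
  rw [large_iff, Product.measure_map_conj]
  exact hQ

theorem maxZ_mcl {Z : Subgroup P} (hZ : MaxZ Z) :
    IsMinimalCentrallyLarge (centralizer (Z : Set P)) := by
  have hl := hZ.1.1
  have hC := centralizer_centralizer hl
  refine ⟨cl_iff.2 ⟨large_centralizer hl, by rw [hC]; exact hZ.1.2⟩, fun Q hle hQ => ?_⟩
  have hQC := cl_large hQ
  have h1 : Z ≤ centralizer (Q : Set P) := hC.ge.trans (centralizer_le hle)
  have h2 := hZ.2 _ ⟨large_centralizer hQC, by rw [centralizer_centralizer hQC]; exact cl_le hQ⟩ h1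
  rw [← h2, centralizer_centralizer hQC]

theorem mcl_maxZ {Q : Subgroup P} (hQ : IsMinimalCentrallyLarge Q) :
    MaxZ (centralizer (Q : Set P)) := by
  have hl := cl_large hQ.1
  refine ⟨⟨large_centralizer hl, by rw [centralizer_centralizer hl]; exact cl_le hQ.1⟩, fun Z hZ hle => ?_⟩
  have hC := centralizer_centralizer hZ.1
  have h1 := hQ.2 (centralizer (Z : Set P)) ((centralizer_le hle).trans (centralizer_centralizer hl).le)
    (cl_iff.2 ⟨large_centralizer hZ.1, by rw [hC]; exact hZ.2⟩)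
  rw [← h1, hC]

theorem exists_maxZ_le {L : Subgroup P} (hL : AbLg L) : ∃ Z, L ≤ Z ∧ MaxZ Z := by
  obtain ⟨Z, hLZ, hZ⟩ := Finite.exists_le_maximal (p := fun Z : Subgroup P => AbLg Z) hL
  exact ⟨Z, hLZ, hZ.1, fun Z' h hle => le_antisymm (hZ.2 h hle) hle⟩

theorem extends_of_maximal {S : Subgroup P}
    (h : ∀ L : Subgroup P, AbLg L → S ≤ normalizer (L : Set P) →
      (∀ L', AbLg L' → S ≤ normalizer (L' : Set P) → L ≤ L' → L' = L) → MaxZ L) :
    Extends S := by
  intro L hL hS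
  obtain ⟨M, hLM, hM⟩ := Finite.exists_le_maximal
    (p := fun Z : Subgroup P => AbLg Z ∧ S ≤ normalizer (Z : Set P)) ⟨hL, hS⟩
  exact ⟨M, hLM, h M hM.1.1 hM.1.2 (fun L' h1 h2 h3 => le_antisymm (hM.2 ⟨h1, h2⟩ h3) h3), hM.1.2⟩

theorem extends_mcl {Q : Subgroup P} (hQ : IsMinimalCentrallyLarge Q) : Extends Q := by
  refine extends_of_maximal fun L hL hQL hmax => ?_
  have hQl := cl_large hQ.1
  set Z0 := centralizer (Q : Set P) with hZ0
  set M := centralizer (L : Set P) with hM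
  have hZ0l : IsCentralizerLarge Z0 := large_centralizer hQl
  have hMl : IsCentralizerLarge M := large_centralizer hL.1
  have hTl := large_sup (large_inf hZ0l hMl) hL.1
  have hZ0ab : Z0 ≤ centralizer (Z0 : Set P) := (mcl_maxZ hQ).1.2
  have hTab := sup_le_centralizer_sup
    ((inf_le_left : Z0 ⊓ M ≤ Z0).trans (hZ0ab.trans (centralizer_le (inf_le_left : Z0 ⊓ M ≤ Z0))))
    hL.2 (inf_le_right : Z0 ⊓ M ≤ M)
  have hT := hmax _ ⟨hTl, hTab⟩
    (le_normalizer_sup' (le_normalizer_inf' (le_normalizer_centralizer le_normalizer)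
      (le_normalizer_centralizer hQL)) hQL) le_sup_right
  have hZML : Z0 ⊓ M ≤ L := hT ▸ le_sup_left
  obtain ⟨Z1, hLZ1, hZ1⟩ := exists_maxZ_le hL
  have hQ1 := maxZ_mcl hZ1
  have hLQ : L ⊓ Q = Z0 ⊓ M := by
    refine le_antisymm ?_ (le_inf hZML (inf_le_left.trans (cl_le hQ.1)))
    refine le_inf ?_ (inf_le_left.trans hL.2)
    rw [hZ0, le_centralizer_iff]
    conv_lhs => rw [← mcl_sup_center hQ hQ1]
    refine sup_le ?_ ?_
    · exact inf_le_right.trans (centralizer_le (inf_le_left.trans hLZ1 : L ⊓ Q ≤ Z1))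
    · exact centralizer_le (inf_le_right : L ⊓ Q ≤ Q)
  have hC : centralizer ((Z0 ⊓ M : Subgroup P) : Set P) = Q ⊔ L := by
    rw [centralizer_inf hZ0l hMl, centralizer_centralizer hQl, centralizer_centralizer hL.1]
  have e1 := large_iff.1 (large_inf hZ0l hMl)
  unfold Product.measure at e1
  rw [hC] at e1
  have e2 := card_sup_inf hQl hL.1
  rw [inf_comm, hLQ, mul_comm, e1, ← hQl] at e2
  have e3 : Nat.card Z0 = Nat.card L := Nat.eq_of_mul_eq_mul_left Nat.card_pos e2
  have hQ1' := (mcl_cards hQ hQ1).2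
  rw [centralizer_centralizer hZ1.1.1] at hQ1'
  have := eq_of_le_of_card_ge hLZ1 (hQ1'.symm.trans e3).le
  exact this ▸ hZ1

theorem exists_fixed_mod {S U L : Subgroup P} [Group.IsNilpotent P]
    (hSU : S ≤ normalizer (U : Set P)) (hnot : ¬ U ≤ L) :
    ∃ v ∈ U, v ∉ L ∧ ∀ s ∈ S, v⁻¹ * (s * v * s⁻¹) ∈ L := by
  let X : ℕ → Subgroup P := fun n => Nat.rec U (fun _ H => ⁅H, S⁆) n
  have hXU : ∀ n, X n ≤ U := by
    intro n
    induction n with
    | zero => exact le_rfl
    | succ n ih =>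
      show ⁅X n, S⁆ ≤ U
      rw [commutator_le]
      intro a ha b hb
      rw [commutatorElement_def, mul_assoc a b, mul_assoc a (b * a⁻¹)]
      exact mul_mem (ih ha) (conj_mem (hSU hb) (inv_mem (ih ha)))
  have hXl : ∀ n, X n ≤ (⊤ : Subgroup P).lowerCentralSeries n := by
    intro n
    induction n with
    | zero => exact le_top
    | succ n ih => exact commutator_mono ih le_top
  obtain ⟨N, hN⟩ := Subgroup.nilpotent_iff_lowerCentralSeries.1 (inferInstance : Group.IsNilpotent P)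
  obtain ⟨n, hn, hsucc⟩ : ∃ n, ¬ X n ≤ L ∧ X (n + 1) ≤ L := by
    by_contra hcon
    have hall : ∀ n, ¬ X n ≤ L := by
      intro n
      induction n with
      | zero => exact hnot
      | succ n ih => exact fun h => hcon ⟨n, ih, h⟩
    exact hall N (le_trans (hXl N) (le_of_eq_of_le hN bot_le))
  obtain ⟨v, hv, hvL⟩ := SetLike.not_le_iff_exists.1 hn
  refine ⟨v⁻¹, inv_mem (hXU n hv), by simpa using hvL, fun s hs => ?_⟩
  have h1 : ⁅v, s⁆ ∈ L := by
    exact hsucc (commutator_mem_commutator hv hs)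
  simpa [commutatorElement_def, mul_assoc] using h1

theorem exists_core {R S H : Subgroup P} (hdec : ∀ s ∈ S, ∃ h ∈ H, ∃ r ∈ R, h * r = s)
    (hH : H ≤ S) {L : Subgroup P} (hSL : S ≤ normalizer (L : Set P))
    (hmax : ∀ L', AbLg L' → S ≤ normalizer (L' : Set P) → L ≤ L' → L' = L)
    {Z : Subgroup P} (hLZ : L ≤ Z) (hZ : MaxZ Z) (hRZ : R ≤ normalizer (Z : Set P)) :
    ∃ D : Subgroup P, IsCentralizerLarge D ∧ S ≤ normalizer (D : Set P) ∧
      D ≤ centralizer (Z : Set P) ∧ Z ≤ centralizer (D : Set P) ∧ L ≤ D ∧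
      D ⊓ centralizer (D : Set P) = L ∧
      ∀ x ∈ centralizer (Z : Set P), (∀ h ∈ H, x⁻¹ * (h * x * h⁻¹) ∈ L) → x ∈ D := by
  set Q := centralizer (Z : Set P) with hQ
  have hQl : IsCentralizerLarge Q := large_centralizer hZ.1.1
  have hDQ : coreIn S Q ≤ Q := coreIn_le S Q
  have hZD : Z ≤ centralizer (coreIn S Q : Set P) :=
    (centralizer_centralizer hZ.1.1).ge.trans (centralizer_le hDQ)
  have hLQ : L ≤ Q := hLZ.trans hZ.1.2
  have hLD : L ≤ coreIn S Q := le_coreIn hLQ hSL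
  refine ⟨coreIn S Q, large_coreIn S hQl, le_normalizer_coreIn S Q, hDQ, hZD, hLD, ?_, ?_⟩
  · refine hmax _ ⟨large_inf (large_coreIn S hQl) (large_centralizer (large_coreIn S hQl)), ?_⟩
      (le_normalizer_inf' (le_normalizer_coreIn S Q)
        (le_normalizer_centralizer (le_normalizer_coreIn S Q))) (le_inf hLD (hLZ.trans hZD))
    exact inf_le_right.trans (centralizer_le inf_le_left)
  · intro x hx hfix
    refine mem_coreIn.2 fun s hs => ?_
    obtain ⟨h, hh, r, hr, rfl⟩ := hdec s hs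
    have h1 : h⁻¹ * x * h ∈ Q := by
      have := mul_mem hx (hLQ (hfix h⁻¹ (inv_mem hh)))
      simpa using this
    have h2 := conj_mem (le_normalizer_centralizer hRZ (inv_mem hr)) h1
    simpa [mul_assoc] using h2

theorem eq_of_factor {S H L Z D F : Subgroup P} [Group.IsNilpotent P] (hH : H ≤ S)
    (hL : AbLg L) (hSL : S ≤ normalizer (L : Set P))
    (hmax : ∀ L', AbLg L' → S ≤ normalizer (L' : Set P) → L ≤ L' → L' = L)
    (hLZ : L ≤ Z) (hZ : MaxZ Z)
    (hDl : IsCentralizerLarge D) (hSD : S ≤ normalizer (D : Set P))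
    (hDQ : D ≤ centralizer (Z : Set P)) (hZD : Z ≤ centralizer (D : Set P))
    (hDU : D ⊓ centralizer (D : Set P) = L)
    (hfixD : ∀ x ∈ centralizer (Z : Set P), (∀ h ∈ H, x⁻¹ * (h * x * h⁻¹) ∈ L) → x ∈ D)
    (hF : F ≤ centralizer (F : Set P)) (hLF : L ≤ F)
    (hfix : ∀ x ∈ F, ∀ h ∈ H, x⁻¹ * (h * x * h⁻¹) ∈ L)
    (hU : ∀ x ∈ centralizer (D : Set P), ∃ z ∈ Z, ∃ a ∈ F, z * a = x) : L = Z := by
  set U := centralizer (D : Set P) with hUdef
  set Q := centralizer (Z : Set P) with hQdef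
  set T := U ⊓ F with hTdef
  have hQF : ∀ x ∈ Q, x ∈ F → x ∈ D := fun x hx hxF => hfixD x hx (hfix x hxF)
  have hUQ : U ⊓ Q = Z := by
    refine le_antisymm ?_ (le_inf hZD hZ.1.2)
    intro x hx
    obtain ⟨z, hz, a, ha, rfl⟩ := hU x hx.1
    have haQ : a ∈ Q := by simpa using mul_mem (inv_mem (hZ.1.2 hz)) hx.2
    have haU : a ∈ U := by simpa using mul_mem (inv_mem (hZD hz)) hx.1
    exact mul_mem hz (hLZ (hDU.le ⟨hQF a haQ ha, haU⟩))
  have hQl : IsCentralizerLarge Q := large_centralizer hZ.1.1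
  have hDZ : D ⊔ Z = Q := by
    have := centralizer_inf (large_centralizer hDl) hQl
    rw [hUQ, centralizer_centralizer hDl, centralizer_centralizer hZ.1.1] at this
    exact this.symm
  have hDiZ : D ⊓ Z = L := le_antisymm ((inf_le_inf_left D hZD).trans hDU.le)
    (le_inf (hDU.ge.trans inf_le_left) hLZ)
  have e1 := card_sup_inf hDl hZ.1.1
  rw [hDZ, hDiZ] at e1
  have hTsup : Z ⊔ T = U := by
    refine le_antisymm (sup_le hZD inf_le_left) fun x hx => ?_
    obtain ⟨z, hz, a, ha, rfl⟩ := hU x hx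
    have haU : a ∈ U := by simpa using mul_mem (inv_mem (hZD hz)) hx
    exact mul_mem (mem_sup_left hz) (mem_sup_right ⟨haU, ha⟩)
  have hTprod : ((Z ⊔ T : Subgroup P) : Set P) = (Z : Set P) * (T : Set P) := by
    refine Set.Subset.antisymm ?_ ?_
    · rw [hTsup]
      intro x hx
      obtain ⟨z, hz, a, ha, rfl⟩ := hU x hx
      exact Set.mul_mem_mul hz ⟨by simpa using mul_mem (inv_mem (hZD hz)) hx, ha⟩
    · rintro _ ⟨z, hz, a, ha, rfl⟩
      exact mul_mem (mem_sup_left hz) (mem_sup_right ha)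
  have e2 := card_of_coe_sup_eq hTprod
  rw [hTsup] at e2
  have hLT : L ≤ T := le_inf (hDU.ge.trans inf_le_right) hLF
  have hTab : T ≤ centralizer (T : Set P) :=
    inf_le_right.trans (hF.trans (centralizer_le inf_le_right))
  have hDT : D ⊓ T ≤ L := (inf_le_inf_left D inf_le_left).trans hDU.le
  have hm : Nat.card D * Nat.card U = maxCentralizerProduct P := hDl
  have hm' : Nat.card Z * Nat.card Q = maxCentralizerProduct P := hZ.1.1
  have hUL : Nat.card U * Nat.card L = Nat.card Z * Nat.card Z := by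
    refine Nat.eq_of_mul_eq_mul_left (Nat.card_pos (α := D)) ?_
    calc Nat.card D * (Nat.card U * Nat.card L)
        = Nat.card D * Nat.card U * Nat.card L := by ring
      _ = Nat.card Z * (Nat.card Q * Nat.card L) := by rw [hm, ← hm']; ring
      _ = Nat.card Z * (Nat.card D * Nat.card Z) := by rw [e1]
      _ = _ := by ring
  have hZT : Nat.card Z ≤ Nat.card T := by
    refine Nat.le_of_mul_le_mul_left ?_ (Nat.card_pos (α := Z))
    rw [← hUL, ← e2]
    exact Nat.mul_le_mul_left _ (card_le_of_le (le_inf hLZ hLT))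
  have hTl : IsCentralizerLarge T := by
    refine large_of_le (Nat.le_of_mul_le_mul_right ?_ (Nat.card_pos (α := L)))
    have h1 : D ⊔ T ≤ centralizer (T : Set P) :=
      sup_le ((le_centralizer_iff.1 le_rfl).trans (centralizer_le inf_le_left)) hTab
    calc maxCentralizerProduct P * Nat.card L
        = Nat.card D * (Nat.card U * Nat.card L) := by rw [← hm]; ring
      _ = Nat.card D * (Nat.card Z * Nat.card Z) := by rw [hUL]
      _ ≤ Nat.card D * (Nat.card T * Nat.card T) :=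
          Nat.mul_le_mul_left _ (Nat.mul_le_mul hZT hZT)
      _ = Nat.card T * (Nat.card D * Nat.card T) := by ring
      _ ≤ Nat.card T * (Nat.card (D ⊔ T : Subgroup P) * Nat.card (D ⊓ T : Subgroup P)) :=
          Nat.mul_le_mul_left _ (Product.card_mul_card_le D T)
      _ ≤ Nat.card T * (Nat.card (centralizer (T : Set P)) * Nat.card L) :=
          Nat.mul_le_mul_left _ (Nat.mul_le_mul (card_le_of_le h1) (card_le_of_le hDT))
      _ = _ := by unfold Product.measure; ring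
  have hK : coreIn S T = L := hmax _ ⟨large_coreIn S hTl,
    (coreIn_le S T).trans (hTab.trans (centralizer_le (coreIn_le S T)))⟩
    (le_normalizer_coreIn S T) (le_coreIn hLT hSL)
  by_contra hne
  have hnot : ¬ U ≤ L := fun h => hne (le_antisymm hLZ (hZD.trans h))
  obtain ⟨v, hvU, hvL, hv⟩ := exists_fixed_mod (le_normalizer_centralizer hSD) hnot
  obtain ⟨z, hz, a, ha, rfl⟩ := hU v hvU
  have hzL : z ∈ L := by
    refine hDU.le ⟨hfixD z (hZ.1.2 hz) fun h hh => ?_, hZD hz⟩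
    have h1 := hv h (hH hh)
    have h2 := hfix a ha h hh
    have h3 : a⁻¹ * (z⁻¹ * (h * z * h⁻¹)) * a ∈ L := by
      have := mul_mem h1 (inv_mem h2)
      simpa [mul_assoc] using this
    have h4 : z⁻¹ * (h * z * h⁻¹) * a = a * (a⁻¹ * (z⁻¹ * (h * z * h⁻¹)) * a) := by group
    rw [mem_centralizer_iff.1 (hF (hLF h3)) a ha] at h4
    rwa [mul_right_cancel h4]
  have hvT : z * a ∈ T := ⟨hvU, mul_mem (hLF hzL) ha⟩
  refine hvL (hK.le (mem_coreIn.2 fun s hs => ?_))
  have := mul_mem hvT (hLT (hv s⁻¹ (inv_mem hs)))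
  simpa [mul_assoc] using this

theorem extends_step_mcl [Group.IsNilpotent P] {Q0 R Q' : Subgroup P}
    (hQ0 : IsMinimalCentrallyLarge Q0) (hR : IsCentrallyLarge R) (h0R : Q0 ≤ R)
    (hQ' : IsMinimalCentrallyLarge Q') (hE : Extends R) : Extends (R ⊔ Q') := by
  refine extends_of_maximal fun L hL hSL hmax => ?_
  obtain ⟨Z, hLZ, hZ, hRZ⟩ := hE L hL (le_sup_left.trans hSL)
  have hQ'l := cl_large hQ'.1
  set Z' := centralizer (Q' : Set P) with hZ'
  have hZ'l : IsCentralizerLarge Z' := large_centralizer hQ'l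
  have hZ'ab : Z' ≤ centralizer (Z' : Set P) := (mcl_maxZ hQ').1.2
  have hH : Z' ≤ R ⊔ Q' := (cl_le hQ'.1).trans le_sup_right
  have hdec : ∀ s ∈ R ⊔ Q', ∃ h ∈ Z', ∃ r ∈ R, h * r = s := by
    intro s hs
    rw [sup_comm] at hs
    obtain ⟨q, hq, r, hr, rfl⟩ := mem_mul_of_mem_sup (coe_sup hQ'l (cl_large hR)) hs
    rw [← mcl_sup_center hQ' hQ0, sup_comm] at hq
    obtain ⟨h, hh, w, hw, rfl⟩ :=
      mem_mul_of_mem_sup (coe_sup hZ'l (large_inf hQ'l (cl_large hQ0.1))) hq
    exact ⟨h, hh, w * r, mul_mem (h0R hw.2) hr, (mul_assoc h w r).symm⟩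
  obtain ⟨D, hDl, hSD, hDQ, hZD, hLD, hDU, hfixD⟩ := exists_core hdec hH hSL hmax hLZ hZ hRZ
  set M := centralizer (L : Set P) with hMdef
  have hMl : IsCentralizerLarge M := large_centralizer hL.1
  have hZMl := large_inf hZ'l hMl
  set F := (Z' ⊓ M) ⊔ L with hFdef
  have hFl : IsCentralizerLarge F := large_sup hZMl hL.1
  have hF : F ≤ centralizer (F : Set P) := sup_le_centralizer_sup
    (inf_le_left.trans (hZ'ab.trans (centralizer_le (inf_le_left : Z' ⊓ M ≤ Z'))))
    hL.2 inf_le_right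
  have hfix : ∀ x ∈ F, ∀ h ∈ Z', x⁻¹ * (h * x * h⁻¹) ∈ L := by
    intro x hx h hh
    obtain ⟨a, ha, l, hl, rfl⟩ := mem_mul_of_mem_sup (coe_sup hZMl hL.1) hx
    have h1 : h * a = a * h := (mem_centralizer_iff.1 (hZ'ab hh) a ha.1).symm
    have h2 : (a * l)⁻¹ * (h * (a * l) * h⁻¹) = l⁻¹ * (h * l * h⁻¹) := by
      rw [← mul_assoc h a l, h1]; group
    rw [h2]
    exact mul_mem (inv_mem hl) (conj_mem (hSL (hH hh)) hl)
  have hCF : centralizer (F : Set P) = (Q' ⊔ L) ⊓ M := by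
    rw [hFdef, Product.centralizer_sup, centralizer_inf hZ'l hMl, centralizer_centralizer hQ'l,
      centralizer_centralizer hL.1]
  have hQCF : centralizer (Z : Set P) ⊓ centralizer (F : Set P) ≤ D := by
    rintro x ⟨hxQ, hxF⟩
    refine hfixD x hxQ fun h hh => ?_
    obtain ⟨q, hq, l, hl, rfl⟩ := mem_mul_of_mem_sup (coe_sup hQ'l hL.1) (hCF.le hxF).1
    have h1 : h * q = q * h := (mem_centralizer_iff.1 hh q hq).symm
    have h2 : (q * l)⁻¹ * (h * (q * l) * h⁻¹) = l⁻¹ * (h * l * h⁻¹) := by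
      rw [← mul_assoc h q l, h1]; group
    rw [h2]
    exact mul_mem (inv_mem hl) (conj_mem (hSL (hH hh)) hl)
  have hU : ∀ x ∈ centralizer (D : Set P), ∃ z ∈ Z, ∃ a ∈ F, z * a = x := by
    intro x hx
    have h1 := centralizer_le hQCF hx
    rw [centralizer_inf (large_centralizer hZ.1.1) (large_centralizer hFl),
      centralizer_centralizer hZ.1.1, centralizer_centralizer hFl] at h1
    exact mem_mul_of_mem_sup (coe_sup hZ.1.1 hFl) h1
  exact (eq_of_factor hH hL hSL hmax hLZ hZ hDl hSD hDQ hZD hDU hfixD hF le_sup_right hfix hU) ▸ hZ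

theorem extends_step_maxAbelian [Group.IsNilpotent P] {R A : Subgroup P}
    (hR : IsCentrallyLarge R) (hA : A ∈ maxAbelianSubgroups P) (hE : Extends R) :
    Extends (R ⊔ A) := by
  refine extends_of_maximal fun L hL hSL hmax => ?_
  obtain ⟨Z, hLZ, hZ, hRZ⟩ := hE L hL (le_sup_left.trans hSL)
  have hCA := centralizer_maxAbelian hA
  have hH : A ≤ R ⊔ A := le_sup_right
  have hdec : ∀ s ∈ R ⊔ A, ∃ h ∈ A, ∃ r ∈ R, h * r = s := by
    intro s hs
    obtain ⟨r, hr, a, ha, e⟩ := mem_mul_of_mem_sup (inf_maxAbelian_facts hR hA).1 (inv_mem hs)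
    exact ⟨a⁻¹, inv_mem ha, r⁻¹, inv_mem hr, by rw [← mul_inv_rev, e, inv_inv]⟩
  obtain ⟨D, hDl, hSD, hDQ, hZD, hLD, hDU, hfixD⟩ := exists_core hdec hH hSL hmax hLZ hZ hRZ
  set M := centralizer (L : Set P) with hMdef
  set F := (A ⊓ M) ⊔ L with hFdef
  have hF : F ≤ centralizer (F : Set P) := sup_le_centralizer_sup
    (inf_le_left.trans (hCA.ge.trans (centralizer_le (inf_le_left : A ⊓ M ≤ A))))
    hL.2 inf_le_right
  have hcomm : ∀ x : P, ∀ h ∈ A, x ∈ A → x⁻¹ * (h * x * h⁻¹) = 1 := by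
    intro x h hh hx
    rw [← mem_centralizer_iff.1 (hCA.ge hh) x hx]; group
  have hfix : ∀ x ∈ F, ∀ h ∈ A, x⁻¹ * (h * x * h⁻¹) ∈ L := by
    intro x hx h hh
    have hnorm : L ≤ normalizer ((A ⊓ M : Subgroup P) : Set P) :=
      (le_centralizer_iff.1 inf_le_right).trans (centralizer_le_normalizer _)
    have hx' : x ∈ ((A ⊓ M : Subgroup P) : Set P) * (L : Set P) := by
      rw [← coe_mul_of_right_le_normalizer_left _ _ hnorm] at *; exact hx
    obtain ⟨a, ha, l, hl, rfl⟩ := hx'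
    have h1 : h * a = a * h := (mem_centralizer_iff.1 (hCA.ge hh) a ha.1).symm
    have h2 : (a * l)⁻¹ * (h * (a * l) * h⁻¹) = l⁻¹ * (h * l * h⁻¹) := by
      rw [← mul_assoc h a l, h1]; group
    rw [h2]
    exact mul_mem (inv_mem hl) (conj_mem (hSL (hH hh)) hl)
  set Q := centralizer (Z : Set P) with hQdef
  have hQ := maxZ_mcl hZ
  obtain ⟨-, hQAcl, hCQA, hZA⟩ := inf_maxAbelian_facts hQ.1 hA
  rw [centralizer_centralizer hZ.1.1] at hCQA hZA
  have hZAL : Z ⊓ A ≤ L := fun x hx => hDU.le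
    ⟨hfixD x (hZ.1.2 hx.1) (fun h hh => by rw [hcomm x h hh hx.2]; exact one_mem L), hZD hx.1⟩
  have hMQA : M ≤ Q ⊔ A := by
    have hMl : IsCentralizerLarge M := large_centralizer hL.1
    have h1 : centralizer ((M ⊓ (Q ⊔ A) : Subgroup P) : Set P) = L := by
      rw [centralizer_inf hMl (cl_large hQAcl), centralizer_centralizer hL.1,
        Product.centralizer_sup, centralizer_centralizer hZ.1.1, hCA, sup_eq_left.2 hZAL]
    have h2 := centralizer_centralizer (large_inf hMl (cl_large hQAcl))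
    rw [h1] at h2
    exact inf_eq_left.1 h2.symm
  have hQAD : Q ⊓ A ≤ D := fun x hx =>
    hfixD x hx.1 (fun h hh => by rw [hcomm x h hh hx.2]; exact one_mem L)
  have hU : ∀ x ∈ centralizer (D : Set P), ∃ z ∈ Z, ∃ a ∈ F, z * a = x := by
    intro x hx
    have hxM : x ∈ M := centralizer_le hLD hx
    have hx1 : x ∈ Z ⊔ A := hCQA.le ⟨hMQA hxM, centralizer_le hQAD hx⟩
    obtain ⟨z, hz, a, ha, rfl⟩ := mem_mul_of_mem_sup hZA hx1
    have hzM : z ∈ M := centralizer_le hLD (hZD hz)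
    refine ⟨z, hz, a, mem_sup_left ⟨ha, ?_⟩, rfl⟩
    simpa using mul_mem (inv_mem hzM) hxM
  exact (eq_of_factor hH hL hSL hmax hLZ hZ hDl hSD hDQ hZD hDU hfixD hF le_sup_right hfix hU) ▸ hZ

theorem exists_invariant_mcl [Group.IsNilpotent P] :
    ∃ Q : Subgroup P, IsMinimalCentrallyLarge Q ∧
      thompsonSubgroupA P ≤ normalizer (Q : Set P) ∧
      minimalCentrallyLargeJoin P ≤ normalizer (Q : Set P) := by
  obtain ⟨Q0, hQ0⟩ := exists_mcl (P := P)
  obtain ⟨R, -, hR⟩ := Finite.exists_le_maximal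
    (p := fun R : Subgroup P => IsCentrallyLarge R ∧ Q0 ≤ R ∧ Extends R)
    ⟨hQ0.1, le_rfl, extends_mcl hQ0⟩
  obtain ⟨hRcl, h0R, hRE⟩ := hR.1
  have hM : ∀ X : Subgroup P, IsMinimalCentrallyLarge X → X ≤ R := fun X hX =>
    le_sup_right.trans (hR.2 ⟨cl_sup hRcl hX.1, h0R.trans le_sup_left,
      extends_step_mcl hQ0 hRcl h0R hX hRE⟩ le_sup_left)
  have hA : ∀ A ∈ maxAbelianSubgroups P, A ≤ R := fun A hA =>
    le_sup_right.trans (hR.2 ⟨(inf_maxAbelian_facts hRcl hA).2.1, h0R.trans le_sup_left,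
      extends_step_maxAbelian hRcl hA hRE⟩ le_sup_left)
  have hRl := cl_large hRcl
  obtain ⟨Z, -, hZ, hRZ⟩ := hRE (centralizer (R : Set P))
    ⟨large_centralizer hRl, by rw [centralizer_centralizer hRl]; exact cl_le hRcl⟩
    (le_normalizer_centralizer le_normalizer)
  have hRQ := le_normalizer_centralizer hRZ
  exact ⟨_, maxZ_mcl hZ, (sSup_le hA).trans hRQ, (sSup_le hM).trans hRQ⟩

end Cfsg.Agent.CLarge
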